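import Mathlib
import Groth.Prelude.Def_CAlg2
import Groth.Prelude.Def_Hensel
import Groth.Agent.Hensel.TrivialFibres
import Groth.Agent.Hensel.Henselization

/-!
# Minimal primes of the normalisation of a reduced ring after strict henselization
-/

set_option autoImplicit false
universe u

open TensorProduct

namespace Groth.Agent.NormSH

variable (A : Type u) [CommRing A]

/-- elements outside all minimal primes become units in the total ring of fractions of `A_red` -/
theorem mem_nonZeroDivisors_red {t : A} (ht : ∀ p ∈ minimalPrimes A, t ∉ p) :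
    Ideal.Quotient.mk (nilradical A) t ∈ nonZeroDivisors (CAlg2.red A) := by
  rw [mem_nonZeroDivisors_iff_right]
  intro z hz
  obtain ⟨z, rfl⟩ := Ideal.Quotient.mk_surjective z
  rw [← map_mul, Ideal.Quotient.eq_zero_iff_mem] at hz
  rw [Ideal.Quotient.eq_zero_iff_mem, nilradical_eq_sInf, Submodule.mem_sInf]
  intro p hp
  have : Ideal.IsPrime p := hp
  obtain ⟨p0, hp0, hle⟩ := Ideal.exists_minimalPrimes_le (I := (⊥ : Ideal A)) (J := p) bot_le
  have h1 : z * t ∈ p0 := by
    rw [nilradical_eq_sInf, Submodule.mem_sInf] at hz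
    exact hz p0 hp0.1.1
  exact hle ((hp0.1.1.mem_or_mem h1).resolve_right (ht p0 hp0))

theorem notMem_of_mem_nonZeroDivisors_red [h : Finite (minimalPrimes A)] {t : A}
    (ht : Ideal.Quotient.mk (nilradical A) t ∈ nonZeroDivisors (CAlg2.red A)) :
    ∀ p ∈ minimalPrimes A, t ∉ p := by
  classical
  intro p hp htp
  have hfin : (minimalPrimes A).Finite := Set.toFinite _
  let s := hfin.toFinset.erase p
  have hne : ∀ q ∈ s, ¬ q ≤ p := fun q hq hle => by
    obtain ⟨h1, h2⟩ := Finset.mem_erase.1 hq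
    have h3 := (hfin.mem_toFinset.1 h2).1
    exact h1 (le_antisymm hle (hp.2 h3 hle))
  obtain ⟨y, hy, hyp⟩ : ∃ y, y ∈ s.inf id ∧ y ∉ p := by
    by_contra hc
    push Not at hc
    obtain ⟨q, hq, hqp⟩ := hp.1.1.inf_le'.1 (fun y hy => hc y hy : s.inf id ≤ p)
    exact hne q hq hqp
  have hnil : y * t ∈ nilradical A := by
    rw [nilradical_eq_sInf, Submodule.mem_sInf]
    intro P hP
    have : Ideal.IsPrime P := hP
    obtain ⟨q, hq, hle⟩ := Ideal.exists_minimalPrimes_le (I := (⊥ : Ideal A)) (J := P) bot_le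
    refine hle ?_
    by_cases hqp : q = p
    · exact q.mul_mem_left _ (hqp ▸ htp)
    · exact q.mul_mem_right _ ((Finset.inf_le (f := id) (Finset.mem_erase.2 ⟨hqp, hfin.mem_toFinset.2 hq⟩) : s.inf id ≤ q) hy)
  rw [← Ideal.Quotient.eq_zero_iff_mem, map_mul] at hnil
  have h0 := (mem_nonZeroDivisors_iff_right.1 ht) _ hnil
  rw [Ideal.Quotient.eq_zero_iff_mem, nilradical_eq_sInf, Submodule.mem_sInf] at h0
  exact hyp (h0 p hp.1.1)

variable [Finite (minimalPrimes A)]

theorem exists_mul_eq_frac (x : FractionRing (CAlg2.red A)) :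
    ∃ t : A, (∀ p ∈ minimalPrimes A, t ∉ p) ∧
      ∃ a, algebraMap A (FractionRing (CAlg2.red A)) t * x = algebraMap A _ a := by
  obtain ⟨⟨a, ⟨t, ht⟩⟩, he⟩ := IsLocalization.surj (nonZeroDivisors (CAlg2.red A)) x
  obtain ⟨a, rfl⟩ := Ideal.Quotient.mk_surjective a
  obtain ⟨t, rfl⟩ := Ideal.Quotient.mk_surjective t
  refine ⟨t, notMem_of_mem_nonZeroDivisors_red A ht, a, ?_⟩
  rw [IsScalarTower.algebraMap_apply A (CAlg2.red A) (FractionRing (CAlg2.red A)),
    IsScalarTower.algebraMap_apply A (CAlg2.red A) (FractionRing (CAlg2.red A)) a, mul_comm]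
  exact he

theorem exists_mul_eq (x : CAlg2.normRed A) :
    ∃ t : A, (∀ p ∈ minimalPrimes A, t ∉ p) ∧
      ∃ a, algebraMap A (CAlg2.normRed A) t * x = algebraMap A _ a := by
  obtain ⟨t, ht, a, ha⟩ := exists_mul_eq_frac A x.1
  exact ⟨t, ht, a, Subtype.ext ha⟩

omit [Finite (minimalPrimes A)] in
theorem isUnit_frac {t : A} (ht : ∀ p ∈ minimalPrimes A, t ∉ p) :
    IsUnit (algebraMap A (FractionRing (CAlg2.red A)) t) := by
  rw [IsScalarTower.algebraMap_apply A (CAlg2.red A) (FractionRing (CAlg2.red A))]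
  exact IsLocalization.map_units (FractionRing (CAlg2.red A)) (⟨_, mem_nonZeroDivisors_red A ht⟩ : nonZeroDivisors (CAlg2.red A))

/-- minimal primes of the normalisation lie over minimal primes -/
theorem minimal_of_minimal_normRed {P : Ideal (CAlg2.normRed A)} (hP : P ∈ minimalPrimes (CAlg2.normRed A)) :
    P.comap (algebraMap A (CAlg2.normRed A)) ∈ minimalPrimes A := by
  classical
  have := hP.1.1
  have hfin : (minimalPrimes A).Finite := Set.toFinite _
  have hsub : ((P.comap (algebraMap A (CAlg2.normRed A)) : Ideal A) : Set A) ⊆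
      ⋃ p ∈ (↑hfin.toFinset : Set (Ideal A)), (p : Set A) := by
    intro t ht
    by_contra hc
    simp only [Set.mem_iUnion, Set.Finite.coe_toFinset, exists_prop, not_exists, not_and] at hc
    have hnz : algebraMap A (CAlg2.normRed A) t ∈ nonZeroDivisors (CAlg2.normRed A) := by
      rw [mem_nonZeroDivisors_iff_right]
      intro z hz
      exact Subtype.ext ((isUnit_frac A hc).mul_left_eq_zero.1 (congrArg Subtype.val hz))
    exact Set.disjoint_left.1 (Ideal.disjoint_nonZeroDivisors_of_mem_minimalPrimes hP) ht hnz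
  obtain ⟨p, hp, hle⟩ := (Ideal.subset_union_prime ⊥ ⊥ fun i hi _ _ => (hfin.mem_toFinset.1 hi).1.1).1 hsub
  have hp' := hfin.mem_toFinset.1 hp
  have : P.comap (algebraMap A (CAlg2.normRed A)) = p :=
    le_antisymm hle (hp'.2 ⟨Ideal.IsPrime.comap _, bot_le⟩ hle)
  rwa [this]

variable (Ash : Type u) [CommRing Ash] [Algebra A Ash]

theorem exists_mul_eq_tensor (z : CAlg2.normRed A ⊗[A] Ash) :
    ∃ t : A, (∀ p ∈ minimalPrimes A, t ∉ p) ∧
      ∃ s : Ash, algebraMap A _ t * z = (1 : CAlg2.normRed A) ⊗ₜ[A] s := by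
  induction z using TensorProduct.induction_on with
  | zero => exact ⟨1, fun p hp h => hp.1.1.ne_top ((Ideal.eq_top_iff_one p).2 h), 0, by simp⟩
  | tmul x s =>
    obtain ⟨t, ht, a, ha⟩ := exists_mul_eq A x
    refine ⟨t, ht, a • s, ?_⟩
    rw [Algebra.TensorProduct.algebraMap_apply, Algebra.TensorProduct.tmul_mul_tmul, one_mul, ha,
      Algebra.algebraMap_eq_smul_one a, TensorProduct.smul_tmul]
  | add x y hx hy =>
    obtain ⟨t, ht, s, hs⟩ := hx
    obtain ⟨t', ht', s', hs'⟩ := hy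
    refine ⟨t * t', fun p hp h => (hp.1.1.mem_or_mem h).elim (ht p hp) (ht' p hp), t' • s + t • s', ?_⟩
    rw [map_mul, mul_add, mul_right_comm, hs, mul_assoc, hs', TensorProduct.tmul_add, TensorProduct.tmul_smul,
      TensorProduct.tmul_smul, Algebra.smul_def, Algebra.smul_def, mul_comm (_ ⊗ₜ[A] s)]

/-- primes over a minimal prime are determined by their trace on `Ash` -/
theorem eq_of_comap_eq {P Q : Ideal (CAlg2.normRed A ⊗[A] Ash)} [P.IsPrime] [Q.IsPrime]
    (hP : P.comap (algebraMap A (CAlg2.normRed A ⊗[A] Ash)) ∈ minimalPrimes A)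
    (hQ : Q.comap (algebraMap A (CAlg2.normRed A ⊗[A] Ash)) ∈ minimalPrimes A)
    (h : P.comap (Algebra.TensorProduct.includeRight.toRingHom : Ash →+* CAlg2.normRed A ⊗[A] Ash) =
      Q.comap (Algebra.TensorProduct.includeRight.toRingHom : Ash →+* CAlg2.normRed A ⊗[A] Ash)) : P = Q := by
  ext z
  obtain ⟨t, ht, s, hs⟩ := exists_mul_eq_tensor A Ash z
  have hPt : algebraMap A (CAlg2.normRed A ⊗[A] Ash) t ∉ P := fun hm => ht _ hP hm
  have hQt : algebraMap A (CAlg2.normRed A ⊗[A] Ash) t ∉ Q := fun hm => ht _ hQ hm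
  constructor
  · intro hz
    have h1 : s ∈ Q.comap (Algebra.TensorProduct.includeRight.toRingHom : Ash →+* CAlg2.normRed A ⊗[A] Ash) := by
      rw [← h]
      show (1 : CAlg2.normRed A) ⊗ₜ[A] s ∈ P
      rw [← hs]; exact P.mul_mem_left _ hz
    have h2 : algebraMap A _ t * z ∈ Q := hs ▸ h1
    exact ((‹Q.IsPrime›).mem_or_mem h2).resolve_left hQt
  · intro hz
    have h1 : s ∈ P.comap (Algebra.TensorProduct.includeRight.toRingHom : Ash →+* CAlg2.normRed A ⊗[A] Ash) := by
      rw [h]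
      show (1 : CAlg2.normRed A) ⊗ₜ[A] s ∈ Q
      rw [← hs]; exact Q.mul_mem_left _ hz
    have h2 : algebraMap A _ t * z ∈ P := hs ▸ h1
    exact ((‹P.IsPrime›).mem_or_mem h2).resolve_left hPt

variable [Module.Flat A Ash]

omit [Finite (minimalPrimes A)] in
theorem minimal_under_of_flat {B : Type u} [CommRing B] [Algebra A B] [Module.Flat A B] {P : Ideal B}
    (hP : P ∈ minimalPrimes B) : P.comap (algebraMap A B) ∈ minimalPrimes A := by
  have := hP.1.1
  refine ⟨⟨Ideal.IsPrime.comap _, bot_le⟩, fun p hp hle => ?_⟩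
  have := hp.1
  obtain ⟨Q, hQP, hQ, hQo⟩ : ∃ Q ≤ P, Q.IsPrime ∧ Q.LiesOver p :=
    Ideal.exists_ideal_le_liesOver_of_le (p := p) (q := P.under A) P hle
  exact (congrArg (Ideal.comap (algebraMap A B)) (le_antisymm hQP (hP.2 ⟨hQ, bot_le⟩ hQP))).ge.trans hQo.over.ge

/-- minimal primes of the tensor product lie over minimal primes of `A` -/
theorem minimal_base {P : Ideal (CAlg2.normRed A ⊗[A] Ash)}
    (hP : P ∈ minimalPrimes (CAlg2.normRed A ⊗[A] Ash)) :
    P.comap (algebraMap A (CAlg2.normRed A ⊗[A] Ash)) ∈ minimalPrimes A := by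
  have h1 := minimal_under_of_flat (A := CAlg2.normRed A) (B := CAlg2.normRed A ⊗[A] Ash) hP
  have h2 := minimal_of_minimal_normRed A h1
  rw [Ideal.comap_comap, ← IsScalarTower.algebraMap_eq] at h2
  exact h2

variable {A Ash}

omit [Finite (minimalPrimes A)] in
theorem fibre_eq (hT : Hensel.TrivialFibres A Ash) {P Q : Ideal Ash} [P.IsPrime] [Q.IsPrime] (h : P ≤ Q)
    (he : P.comap (algebraMap A Ash) = Q.comap (algebraMap A Ash)) : P = Q := by
  refine le_antisymm h fun x hx => ?_
  have h1 : algebraMap Ash (Localization.AtPrime Q) x ∈ IsLocalRing.maximalIdeal (Localization.AtPrime Q) :=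
    (IsLocalization.AtPrime.to_map_mem_maximal_iff _ Q x).2 hx
  rw [← hT.map_eq Q, IsScalarTower.algebraMap_eq A Ash (Localization.AtPrime Q), ← Ideal.map_map,
    IsLocalization.algebraMap_mem_map_algebraMap_iff Q.primeCompl, ← he] at h1
  obtain ⟨s, hs, hsx⟩ := h1
  exact ((‹P.IsPrime›).mem_or_mem ((Ideal.map_comap_le : (P.comap (algebraMap A Ash)).map _ ≤ P) hsx)).resolve_left
    fun hsP => hs (h hsP)

omit [Finite (minimalPrimes A)] in
theorem minimal_of_over_minimal (hT : Hensel.TrivialFibres A Ash) {Q : Ideal Ash} [Q.IsPrime]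
    (hQ : Q.comap (algebraMap A Ash) ∈ minimalPrimes A) : Q ∈ minimalPrimes Ash := by
  refine ⟨⟨inferInstance, bot_le⟩, fun P hP hPQ => ?_⟩
  have := hP.1
  exact (fibre_eq hT hPQ (le_antisymm (Ideal.comap_mono hPQ) (hQ.2 ⟨Ideal.IsPrime.comap _, bot_le⟩ (Ideal.comap_mono hPQ)))).ge

theorem isIntegral_tensor : RingHom.IsIntegral (R := Ash) (A := CAlg2.normRed A ⊗[A] Ash)
    (Algebra.TensorProduct.includeRight.toRingHom : Ash →+* CAlg2.normRed A ⊗[A] Ash) := by
  have : Algebra.IsIntegral A (CAlg2.normRed A) := by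
    have : Algebra.IsIntegral A (CAlg2.red A) := ⟨fun x => by
      obtain ⟨a, rfl⟩ := Ideal.Quotient.mk_surjective x
      exact isIntegral_algebraMap⟩
    exact Algebra.IsIntegral.trans (R := A) (CAlg2.red A)
  letI := Algebra.TensorProduct.rightAlgebra (R := A) (A := CAlg2.normRed A) (B := Ash)
  have h : Algebra.IsIntegral Ash (Ash ⊗[A] CAlg2.normRed A) := inferInstance
  intro z
  obtain ⟨w, rfl⟩ := (Algebra.TensorProduct.commRight A Ash (CAlg2.normRed A)).surjective z
  exact (h.isIntegral w).map (Algebra.TensorProduct.commRight A Ash (CAlg2.normRed A)).toAlgHom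

/-- minimal primes correspond -/
theorem bijOn_minimalPrimes (hT : Hensel.TrivialFibres A Ash) :
    Set.BijOn (fun P : Ideal ((CAlg2.normRed A) ⊗[A] Ash) =>
        P.comap (Algebra.TensorProduct.includeRight.toRingHom : Ash →+* (CAlg2.normRed A) ⊗[A] Ash))
      (minimalPrimes ((CAlg2.normRed A) ⊗[A] Ash)) (minimalPrimes Ash) := by
  let W := CAlg2.normRed A ⊗[A] Ash
  let iR : Ash →+* W := Algebra.TensorProduct.includeRight.toRingHom
  have hover : ∀ (P : Ideal W), (P.comap iR).comap (algebraMap A Ash) = P.comap (algebraMap A W) := fun P => by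
    rw [Ideal.comap_comap]
    congr 1
    exact (Algebra.TensorProduct.includeRight : Ash →ₐ[A] W).comp_algebraMap
  refine ⟨fun P hP => ?_, fun P hP Q hQ h => ?_, fun Q hQ => ?_⟩
  · have := hP.1.1
    exact minimal_of_over_minimal hT (Q := P.comap iR) (hover P ▸ minimal_base A Ash hP)
  · have := hP.1.1
    have := hQ.1.1
    exact eq_of_comap_eq A Ash (minimal_base A Ash hP) (minimal_base A Ash hQ) h
  · have := hQ.1.1
    let f : CAlg2.red A →ₐ[A] Ash ⧸ Q := Ideal.Quotient.liftₐ (nilradical A) (Algebra.ofId A (Ash ⧸ Q))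
      fun a ha => ((mem_nilradical.1 ha).map (algebraMap A (Ash ⧸ Q))).eq_zero
    let π : CAlg2.red A ⊗[A] Ash →ₐ[A] Ash ⧸ Q :=
      Algebra.TensorProduct.lift f (Ideal.Quotient.mkₐ A Q) fun _ _ => .all _ _
    let j : CAlg2.red A ⊗[A] Ash →ₐ[A] W :=
      Algebra.TensorProduct.map (IsScalarTower.toAlgHom A (CAlg2.red A) (CAlg2.normRed A)) (AlgHom.id A Ash)
    have hj : Function.Injective j := by
      refine Module.Flat.rTensor_preserves_injective_linearMap (M := Ash)
        (IsScalarTower.toAlgHom A (CAlg2.red A) (CAlg2.normRed A)).toLinearMap ?_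
      intro a b hab
      exact IsFractionRing.injective (CAlg2.red A) (FractionRing (CAlg2.red A)) (congrArg Subtype.val hab)
    have hker : RingHom.ker iR ≤ Q := fun z hz => by
      have h0 : ((1 : CAlg2.red A) ⊗ₜ[A] z) = 0 := hj (by
        rw [map_zero, Algebra.TensorProduct.map_tmul, map_one, AlgHom.id_apply]
        exact hz)
      have h1 := congrArg π h0
      rw [map_zero, Algebra.TensorProduct.lift_tmul, map_one, one_mul] at h1
      exact Ideal.Quotient.eq_zero_iff_mem.1 h1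
    letI : Algebra Ash W := iR.toAlgebra
    have : Algebra.IsIntegral Ash W := ⟨isIntegral_tensor⟩
    obtain ⟨P, -, hP, hPc⟩ := Ideal.exists_ideal_over_prime_of_isIntegral (R := Ash) (S := W) Q ⊥
      (by rw [← RingHom.ker_eq_comap_bot]; exact hker)
    obtain ⟨P0, hP0, hle⟩ := Ideal.exists_minimalPrimes_le (I := (⊥ : Ideal W)) (J := P) bot_le
    refine ⟨P0, hP0, ?_⟩
    have := hP0.1.1
    exact le_antisymm ((Ideal.comap_mono hle).trans hPc.le) (hQ.2 ⟨Ideal.IsPrime.comap _, bot_le⟩ ((Ideal.comap_mono hle).trans hPc.le))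

end Groth.Agent.NormSH
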