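import Mathlib
import Groth.Prelude.Def_Smoothing
import Groth.Agent.NormSH.Basic
import Groth.Agent.Hensel.TrivialFibres
import Groth.Agent.S0499
import Groth.Agent.S9446

/-!
# Branches of the normalisation after strict henselization
-/

set_option autoImplicit false
universe u

open TensorProduct

namespace Groth.Agent.NormSH

/-- The henselization is ind-smooth. -/
theorem indSmooth_hens {R K S : Type u} [CommRing R] [CommRing K] [Algebra R K] [CommRing S] [Algebra R S]
    (e : Hensel.Hens R K ≃ₐ[R] S) : Smoothing.IndSmooth R S := by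
  classical
  intro A _ _ hA f
  obtain ⟨n, π, hπ, hker⟩ := hA.out
  obtain ⟨X, x, hx⟩ := Hensel.Hens.exists_rep_fintype fun i => e.symm (f (π (MvPolynomial.X i)))
  have hcomp : ∀ (Y : Hensel.Nbhd R K) (φ : X ⟶ Y) (P : MvPolynomial (Fin n) R),
      Hensel.Hens.of Y (φ.1 (MvPolynomial.aeval x P)) = e.symm (f (π P)) := fun Y φ P => by
    rw [Hensel.Hens.of_hom φ]
    refine DFunLike.congr_fun (MvPolynomial.algHom_ext (f := (Hensel.Hens.of X).comp (MvPolynomial.aeval x))
      (g := (e.symm.toAlgHom.comp f).comp π) fun i => ?_) P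
    simp [hx i]
  obtain ⟨T, hT⟩ := hker
  obtain ⟨Y, φ, hY⟩ : ∃ (Y : Hensel.Nbhd R K) (φ : X ⟶ Y), ∀ P ∈ T, φ.1 (MvPolynomial.aeval x P) = 0 := by
    have hall : ∀ P ∈ T, π P = 0 := fun P hP => RingHom.mem_ker.1 (hT ▸ Ideal.subset_span hP :)
    clear hT
    induction T using Finset.induction_on with
    | empty => exact ⟨X, CategoryTheory.CategoryStruct.id X, by simp⟩
    | insert P T hP ih =>
      obtain ⟨Y, φ, hY⟩ := ih fun Q hQ => hall Q (Finset.mem_insert_of_mem hQ)
      have h0 : Hensel.Hens.of Y (φ.1 (MvPolynomial.aeval x P)) = Hensel.Hens.of Y 0 := by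
        rw [hcomp, hall P (Finset.mem_insert_self _ _), map_zero, map_zero, map_zero]
      obtain ⟨Z, ψ, hψ⟩ := (Hensel.Hens.of_eq_iff _ _).1 h0
      rw [map_zero] at hψ
      refine ⟨Z, CategoryTheory.CategoryStruct.comp φ ψ, fun Q hQ => ?_⟩
      rcases Finset.mem_insert.1 hQ with rfl | hQ
      · exact hψ
      · show ψ.1 (φ.1 (MvPolynomial.aeval x Q)) = 0
        rw [hY Q hQ, map_zero]
  let g0 : MvPolynomial (Fin n) R →ₐ[R] Y.carrier := φ.1.comp (MvPolynomial.aeval x)
  have hle : RingHom.ker π.toRingHom ≤ RingHom.ker g0.toRingHom := by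
    rw [← hT]; exact Ideal.span_le.2 hY
  let g : A →ₐ[R] Y.carrier :=
    (Ideal.Quotient.liftₐ (RingHom.ker π) g0 fun a ha => hle ha).comp
      (Ideal.quotientKerAlgEquivOfSurjective hπ).symm.toAlgHom
  refine ⟨Y.carrier, inferInstance, inferInstance, inferInstance, g, e.toAlgHom.comp (Hensel.Hens.of Y), ?_⟩
  ext a
  obtain ⟨P, rfl⟩ := hπ a
  have hg : g (π P) = g0 P := by
    show Ideal.Quotient.liftₐ (RingHom.ker π) g0 (fun a ha => hle ha) ((Ideal.quotientKerAlgEquivOfSurjective hπ).symm (π P)) = g0 P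
    rw [show π P = Ideal.quotientKerAlgEquivOfSurjective hπ (Ideal.Quotient.mk _ P) from rfl, AlgEquiv.symm_apply_apply]
    rfl
  show e (Hensel.Hens.of Y (g (π P))) = f (π P)
  rw [hg]
  show e (Hensel.Hens.of Y (φ.1 (MvPolynomial.aeval x P))) = _
  rw [hcomp, AlgEquiv.apply_symm_apply]

/-- A domain integral over a henselian local ring is local. -/
theorem isLocalRing_of_isDomain_integral (H D : Type u) [CommRing H] [HenselianLocalRing H] [CommRing D] [IsDomain D]
    [Algebra H D] [Algebra.IsIntegral H D] : IsLocalRing D := by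
  refine IsLocalRing.of_isUnit_or_isUnit_one_sub_self fun x => ?_
  let F := Algebra.adjoin H ({x} : Set D)
  have : Module.Finite H F := Module.Finite.iff_fg.2 (Algebra.IsIntegral.isIntegral (R := H) x).fg_adjoin_singleton
  obtain ⟨ι, _, B, _, hB, ⟨e⟩⟩ := Groth.Agent.S0499.result H F
  have hne : Nonempty ι := by
    by_contra h
    rw [not_nonempty_iff] at h
    exact not_subsingleton F e.injective.subsingleton
  have : Subsingleton ι := ⟨fun i j => by
    classical
    by_contra hij
    have := hB i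
    have := hB j
    have h1 : (Pi.single i 1 : ∀ k, B k) * Pi.single j 1 = 0 := by
      funext k
      by_cases hk : k = i
      · subst hk; simp [Pi.single_eq_of_ne hij]
      · simp [Pi.single_eq_of_ne hk]
    have h2 := congrArg e.symm h1
    rw [map_mul, map_zero, mul_eq_zero] at h2
    rcases h2 with h2 | h2
    · have := congrFun ((map_eq_zero_iff e.symm e.symm.injective).1 h2) i
      simp at this
    · have := congrFun ((map_eq_zero_iff e.symm e.symm.injective).1 h2) j
      simp at this⟩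
  obtain ⟨i⟩ := hne
  have := hB i
  let : Unique ι := uniqueOfSubsingleton i
  have : IsLocalRing (B default) := hB _
  have : IsLocalRing F := IsLocalRing.of_surjective' (e.trans (RingEquiv.piUnique B)).symm.toRingHom
    (e.trans (RingEquiv.piUnique B)).symm.surjective
  rcases IsLocalRing.isUnit_or_isUnit_one_sub_self (⟨x, Algebra.subset_adjoin rfl⟩ : F) with h | h
  · exact Or.inl (h.map F.val)
  · exact Or.inr (by simpa using h.map F.val)

variable {A : Type u} [CommRing A] [Finite (minimalPrimes A)] {Ash : Type u} [CommRing Ash] [Algebra A Ash]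
  [Module.Flat A Ash]

omit [Finite (minimalPrimes A)] [Module.Flat A Ash] in
theorem existsUnique_maximal_of_integral {W : Type u} [CommRing W] [HenselianLocalRing Ash] (iR : Ash →+* W)
    (hint : iR.IsIntegral) (q : Ideal W) [q.IsPrime] : ∃! m : Ideal W, m.IsMaximal ∧ q ≤ m := by
  let ρ : Ash →+* W ⧸ q := (Ideal.Quotient.mk q).comp iR
  letI : Algebra Ash (W ⧸ q) := ρ.toAlgebra
  have : Algebra.IsIntegral Ash (W ⧸ q) := ⟨hint.trans _ _
    ((Ideal.Quotient.mk q).isIntegral_of_surjective Ideal.Quotient.mk_surjective)⟩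
  have : IsLocalRing (W ⧸ q) := isLocalRing_of_isDomain_integral Ash (W ⧸ q)
  let m := (IsLocalRing.maximalIdeal (W ⧸ q)).comap (Ideal.Quotient.mk q)
  have hm : m.IsMaximal := Ideal.comap_isMaximal_of_surjective _ Ideal.Quotient.mk_surjective
  refine ⟨m, ⟨hm, fun x hx => ?_⟩, fun m' ⟨hm', hle⟩ => ?_⟩
  · show Ideal.Quotient.mk q x ∈ IsLocalRing.maximalIdeal (W ⧸ q)
    rw [Ideal.Quotient.eq_zero_iff_mem.2 hx]
    exact zero_mem _
  · have hmap : (m'.map (Ideal.Quotient.mk q)).IsMaximal :=
      (Ideal.map_eq_top_or_isMaximal_of_surjective _ Ideal.Quotient.mk_surjective hm').resolve_left fun h =>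
        hm'.ne_top (by
          have := congrArg (Ideal.comap (Ideal.Quotient.mk q)) h
          rwa [Ideal.comap_map_of_surjective _ Ideal.Quotient.mk_surjective, ← RingHom.ker_eq_comap_bot,
            Ideal.mk_ker, sup_eq_left.2 hle, Ideal.comap_top] at this)
    have e := congrArg (Ideal.comap (Ideal.Quotient.mk q)) (IsLocalRing.eq_maximalIdeal hmap)
    rwa [Ideal.comap_map_of_surjective _ Ideal.Quotient.mk_surjective, ← RingHom.ker_eq_comap_bot,
      Ideal.mk_ker, sup_eq_left.2 hle] at e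

theorem existsUnique_maximal [HenselianLocalRing Ash] (q : Ideal (CAlg2.normRed A ⊗[A] Ash))
    (hq : q ∈ minimalPrimes (CAlg2.normRed A ⊗[A] Ash)) :
    ∃! m : Ideal (CAlg2.normRed A ⊗[A] Ash), m.IsMaximal ∧ q ≤ m :=
  @existsUnique_maximal_of_integral Ash _ (CAlg2.normRed A ⊗[A] Ash) inferInstance _ Algebra.TensorProduct.includeRight.toRingHom isIntegral_tensor q hq.1.1

/-- in a zero-dimensional ring some power of every element is divisible by the next one -/
theorem exists_pow_eq {U : Type u} [CommRing U] (h : ∀ M M' : Ideal U, M.IsPrime → M'.IsPrime → M ≤ M' → M = M') (x : U) :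
    ∃ (n : ℕ) (v : U), x ^ n = x ^ (n + 1) * v := by
  classical
  let I : Ideal U :=
    { carrier := {u | ∃ (n : ℕ) (v : U), x ^ n * u = x ^ (n + 1) * v}
      zero_mem' := ⟨0, 0, by simp⟩
      add_mem' := by
        rintro a b ⟨n, v, hv⟩ ⟨m, w, hw⟩
        refine ⟨n + m, x ^ m * (x * 0) + (v * x ^ 0 + w * x ^ 0), ?_⟩
        rw [pow_add, mul_add, show x ^ n * x ^ m * a = x ^ m * (x ^ n * a) by ring, hv,
          show x ^ n * x ^ m * b = x ^ n * (x ^ m * b) by ring, hw]
        ring
      smul_mem' := by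
        rintro c a ⟨n, v, hv⟩
        refine ⟨n, c * v, ?_⟩
        rw [smul_eq_mul, mul_left_comm, hv]; ring }
  have htop : I = ⊤ := by
    by_contra hne
    obtain ⟨M, hM, hle⟩ := Ideal.exists_le_maximal I hne
    by_cases hx : x ∈ M
    · obtain ⟨s, hs, n, hn⟩ : ∃ s ∉ M, ∃ n : ℕ, s * x ^ n = 0 := by
        have hnil : IsNilpotent (algebraMap U (Localization.AtPrime M) x) := by
          rw [← mem_nilradical, nilradical_eq_sInf, Submodule.mem_sInf]
          intro P hP
          have : Ideal.IsPrime P := hP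
          have h1 : Ideal.comap (algebraMap U (Localization.AtPrime M)) P ≤ M := fun z hz => by
            by_contra hzM
            exact (‹Ideal.IsPrime P›).ne_top (Ideal.eq_top_of_isUnit_mem (x := algebraMap U (Localization.AtPrime M) z) _ hz
              (IsLocalization.map_units (Localization.AtPrime M) (⟨z, hzM⟩ : M.primeCompl)))
          have h2 := h _ M (Ideal.IsPrime.comap _) hM.isPrime h1
          exact (h2.ge hx : x ∈ Ideal.comap (algebraMap U (Localization.AtPrime M)) P)
        obtain ⟨n, hn⟩ := hnil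
        rw [← map_pow, IsLocalization.map_eq_zero_iff M.primeCompl] at hn
        obtain ⟨s, hs⟩ := hn
        exact ⟨s, s.2, n, hs⟩
      exact hs (hle ⟨n, 0, by rw [mul_zero, mul_comm]; exact hn⟩)
    · exact hx (hle ⟨0, 1, by simp⟩)
  obtain ⟨n, v, hv⟩ := (htop ▸ Submodule.mem_top : (1 : U) ∈ I)
  exact ⟨n, v, by rw [← hv, mul_one]⟩

theorem existsUnique_minimal (hT : Hensel.TrivialFibres A Ash) (hS : Smoothing.IndSmooth A Ash)
    (m : Ideal (CAlg2.normRed A ⊗[A] Ash)) (hm : m.IsMaximal) :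
    ∃! q : Ideal (CAlg2.normRed A ⊗[A] Ash), q ∈ minimalPrimes (CAlg2.normRed A ⊗[A] Ash) ∧ q ≤ m := by
  classical
  obtain ⟨q1, hq1, hle1⟩ := Ideal.exists_minimalPrimes_le (I := (⊥ : Ideal (CAlg2.normRed A ⊗[A] Ash))) (J := m) bot_le
  refine ⟨q1, ⟨hq1, hle1⟩, fun q2 ⟨hq2, hle2⟩ => ?_⟩
  by_contra hne
  have := hq1.1.1
  have := hq2.1.1
  let W := CAlg2.normRed A ⊗[A] Ash
  let F := FractionRing (CAlg2.red A)
  let U := Ash ⊗[A] F
  obtain ⟨x, hx1, hx2⟩ : ∃ x, x ∈ q1 ∧ x ∉ q2 := by
    by_contra hc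
    push Not at hc
    exact hne (le_antisymm (hq2.2 hq1.1 hc) hc)
  let θ : W →ₐ[A] U := (Algebra.TensorProduct.comm A F Ash).toAlgHom.comp
    (Algebra.TensorProduct.map ((integralClosure (CAlg2.red A) F).val.restrictScalars A) (AlgHom.id A Ash))
  have hθt : ∀ (y : CAlg2.normRed A) (s : Ash), θ (y ⊗ₜ s) = s ⊗ₜ y.1 := fun y s => by simp [θ]; rfl
  have hθ : Function.Injective θ := (Algebra.TensorProduct.comm A F Ash).injective.comp
    (Module.Flat.rTensor_preserves_injective_linearMap (M := Ash)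
      ((integralClosure (CAlg2.red A) F).val.restrictScalars A).toLinearMap Subtype.val_injective)
  have hunit : ∀ t : A, (∀ p ∈ minimalPrimes A, t ∉ p) → IsUnit (algebraMap A U t) := fun t ht => by
    have := (isUnit_frac A ht).map (Algebra.TensorProduct.includeRight : F →ₐ[A] U)
    rwa [AlgHom.commutes] at this
  have hloc : ∀ u : U, ∃ t : A, (∀ p ∈ minimalPrimes A, t ∉ p) ∧ ∃ w : W, algebraMap A U t * u = θ w := fun u => by
    induction u using TensorProduct.induction_on with
    | zero => exact ⟨1, fun p hp h => hp.1.1.ne_top ((Ideal.eq_top_iff_one p).2 h), 0, by simp⟩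
    | tmul s y =>
      obtain ⟨t, ht, a, ha⟩ := exists_mul_eq_frac A y
      refine ⟨t, ht, algebraMap A _ a ⊗ₜ s, ?_⟩
      rw [hθt, ← (Algebra.TensorProduct.includeRight : F →ₐ[A] U).commutes, Algebra.TensorProduct.includeRight_apply,
        Algebra.TensorProduct.tmul_mul_tmul, one_mul, ha]
      rfl
    | add y z hy hz =>
      obtain ⟨t, ht, w, hw⟩ := hy
      obtain ⟨t', ht', w', hw'⟩ := hz
      refine ⟨t * t', fun p hp h => (hp.1.1.mem_or_mem h).elim (ht p hp) (ht' p hp),
        algebraMap A W t' * w + algebraMap A W t * w', ?_⟩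
      rw [map_add, map_mul θ, map_mul θ, AlgHom.commutes, AlgHom.commutes, map_mul, ← hw, ← hw']
      ring
  have hzero : ∀ M M' : Ideal U, M.IsPrime → M'.IsPrime → M ≤ M' → M = M' := fun M M' hM hM' hle => by
    have hmin : ∀ N : Ideal U, N.IsPrime → (N.comap θ.toRingHom).comap (algebraMap A W) ∈ minimalPrimes A := by
      intro N hN
      have := hN
      have hfin : (minimalPrimes A).Finite := Set.toFinite _
      have hsub : (((N.comap θ.toRingHom).comap (algebraMap A W) : Ideal A) : Set A) ⊆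
          ⋃ p ∈ (↑hfin.toFinset : Set (Ideal A)), (p : Set A) := by
        intro t ht
        by_contra hc
        simp only [Set.mem_iUnion, Set.Finite.coe_toFinset, exists_prop, not_exists, not_and] at hc
        have h1 : θ (algebraMap A W t) ∈ N := ht
        rw [AlgHom.commutes] at h1
        exact hN.ne_top (Ideal.eq_top_of_isUnit_mem _ h1 (hunit t hc))
      obtain ⟨p, hp, hle⟩ := (Ideal.subset_union_prime ⊥ ⊥ fun i hi _ _ => (hfin.mem_toFinset.1 hi).1.1).1 hsub
      have hp' := hfin.mem_toFinset.1 hp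
      rwa [le_antisymm hle (hp'.2 ⟨Ideal.IsPrime.comap _, bot_le⟩ hle)]
    have hP := hmin M hM
    have hP' := hmin M' hM'
    have : (M.comap θ.toRingHom).IsPrime := Ideal.IsPrime.comap _
    have : (M'.comap θ.toRingHom).IsPrime := Ideal.IsPrime.comap _
    let iR : Ash →+* W := Algebra.TensorProduct.includeRight.toRingHom
    have hA0 : ∀ P : Ideal W, (P.comap iR).comap (algebraMap A Ash) = P.comap (algebraMap A W) := fun P => by
      rw [Ideal.comap_comap]
      congr 1
      exact (Algebra.TensorProduct.includeRight : Ash →ₐ[A] W).comp_algebraMap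
    have hsub := Ideal.comap_mono (f := θ.toRingHom) hle
    have heq : M.comap θ.toRingHom = M'.comap θ.toRingHom := by
      refine eq_of_comap_eq A Ash hP hP' (fibre_eq hT (P := (M.comap θ.toRingHom).comap iR)
        (Q := (M'.comap θ.toRingHom).comap iR) (Ideal.comap_mono hsub) ?_)
      rw [hA0, hA0]
      exact le_antisymm (Ideal.comap_mono hsub) (hP'.2 hP.1 (Ideal.comap_mono hsub))
    refine le_antisymm hle fun u hu => ?_
    obtain ⟨t, ht, w, hw⟩ := hloc u
    have h1 : w ∈ M'.comap θ.toRingHom := show θ w ∈ M' from hw ▸ M'.mul_mem_left _ hu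
    rw [← heq] at h1
    have h2 : algebraMap A U t * u ∈ M := hw.symm ▸ (h1 : θ w ∈ M)
    exact (hM.mem_or_mem h2).resolve_left fun h3 => hM.ne_top (Ideal.eq_top_of_isUnit_mem _ h3 (hunit t ht))
  obtain ⟨n, v, hv⟩ := exists_pow_eq hzero (θ x)
  have hk : ∀ k : ℕ, θ x ^ n = θ x ^ n * (θ x * v) ^ k := fun k => by
    induction k with
    | zero => simp
    | succ k ih =>
      rw [pow_succ, ← mul_assoc, ← ih, ← mul_assoc, ← pow_succ]
      exact hv
  let e := (θ x * v) ^ (n + 1)
  have hN : θ x ^ (n + 1) * e = θ x ^ (n + 1) := by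
    show θ x ^ (n + 1) * (θ x * v) ^ (n + 1) = θ x ^ (n + 1)
    rw [pow_succ' (θ x) n, mul_assoc, ← hk]
  have he : e * e = e := by
    show (θ x * v) ^ (n + 1) * e = (θ x * v) ^ (n + 1)
    rw [mul_pow, mul_comm (θ x ^ (n + 1)) (v ^ (n + 1)), mul_assoc, hN]
  have : Nontrivial W := ⟨⟨0, 1, fun h => hm.ne_top ((Ideal.eq_top_iff_one m).2 (h ▸ m.zero_mem))⟩⟩
  have : Nontrivial Ash := (Algebra.TensorProduct.includeRight : Ash →ₐ[A] W).toRingHom.domain_nontrivial
  have heint : IsIntegral Ash e := ⟨Polynomial.X ^ 2 - Polynomial.X, Polynomial.monic_X_pow_sub (by rw [Polynomial.degree_X]; norm_num),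
    by simp [sq, he]⟩
  obtain ⟨w', hw'⟩ := (S9446.result A Ash hS F).2 ⟨e, heint⟩
  obtain ⟨w, hw⟩ : e ∈ θ.range := by
    have key : ∀ z : Ash ⊗[A] integralClosure A F, (TensorProduct.toIntegralClosure A Ash F z).1 ∈ θ.range := fun z => by
      induction z using TensorProduct.induction_on with
      | zero => rw [map_zero]; exact zero_mem _
      | add y z hy hz => rw [map_add]; exact add_mem hy hz
      | tmul s y =>
        refine ⟨(⟨y.1, IsIntegral.tower_top (A := CAlg2.red A) y.2⟩ : CAlg2.normRed A) ⊗ₜ s, (hθt _ _).trans ?_⟩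
        simp [TensorProduct.toIntegralClosure]
    have := key w'
    rwa [hw'] at this
  have hw1 : w ∈ q1 := by
    obtain ⟨t, ht, v0, hv0⟩ := hloc v
    have h1 : algebraMap A W (t ^ (n + 1)) * w = x ^ (n + 1) * v0 ^ (n + 1) := hθ (by
      rw [map_mul, map_mul, AlgHom.commutes, map_pow, map_pow θ, map_pow θ, ← hv0]
      show _ * θ w = _
      rw [show θ w = e from hw]
      show _ * (θ x * v) ^ (n + 1) = _
      ring)
    have h2 : algebraMap A W (t ^ (n + 1)) * w ∈ q1 :=
      h1 ▸ q1.mul_mem_right _ (Ideal.pow_mem_of_mem q1 hx1 _ (Nat.succ_pos n))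
    refine ((‹q1.IsPrime›).mem_or_mem h2).resolve_left fun h3 => ?_
    rw [map_pow] at h3
    exact ht _ (minimal_base A Ash hq1) ((‹q1.IsPrime›).mem_of_pow_mem _ h3)
  have hw2 : 1 - w ∈ q2 := by
    have h1 : x ^ (n + 1) * (1 - w) = 0 := hθ (by
      rw [map_mul, map_sub, map_one, map_pow, map_zero, mul_sub, mul_one, show θ w = e from hw, hN, sub_self])
    exact ((‹q2.IsPrime›).mem_or_mem (h1 ▸ q2.zero_mem : x ^ (n + 1) * (1 - w) ∈ q2)).resolve_left
      fun h2 => hx2 ((‹q2.IsPrime›).mem_of_pow_mem _ h2)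
  have := add_mem (hle1 hw1) (hle2 hw2)
  exact hm.ne_top ((Ideal.eq_top_iff_one m).2 ((add_sub_cancel w (1 : W)) ▸ this))

end Groth.Agent.NormSH
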